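import Groth.Prelude.Def_CAlgX
import Groth.Prelude.Def_W4stkadequatePure
import Groth.Agent.CAlgML.UI
import Mathlib.Algebra.Module.CharacterModule
import Mathlib.LinearAlgebra.DFinsupp

/-!
# Pure projective and pure injective modules
-/

universe u

set_option backward.isDefEq.respectTransparency false

namespace Groth.Agent.PureExt12

open TensorProduct Function Groth.Agent.CAlgML CAlgX

variable (R : Type u) [CommRing R]

/-- Pure projective. -/
def PP (P : Type u) [AddCommGroup P] [Module R P] : Prop :=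
  ∀ ⦃L N : Type u⦄ [AddCommGroup L] [Module R L] [AddCommGroup N] [Module R N] (g : L →ₗ[R] N),
    Surjective g → UniversallyInjective R (LinearMap.ker g).subtype →
    ∀ φ : P →ₗ[R] N, ∃ ψ : P →ₗ[R] L, g ∘ₗ ψ = φ

/-- Pure injective. -/
def PI (I : Type u) [AddCommGroup I] [Module R I] : Prop :=
  ∀ ⦃K L : Type u⦄ [AddCommGroup K] [Module R K] [AddCommGroup L] [Module R L] (f : K →ₗ[R] L),
    UniversallyInjective R f → ∀ φ : K →ₗ[R] I, ∃ ψ : L →ₗ[R] I, ψ ∘ₗ f = φ

variable {R}

theorem pi_characterModule (Q : Type u) [AddCommGroup Q] [Module R Q] : PI R (CharacterModule Q) :=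
  fun _ _ _ _ _ _ f hf φ => rTensor_injective_iff_lcomp_surjective.mp (hf Q) φ

theorem universallyInjective_charEval (M : Type u) [AddCommGroup M] [Module R M] :
    UniversallyInjective R (PureExt.charEval R M) := by
  intro Q _ _
  rw [rTensor_injective_iff_lcomp_surjective]
  intro φ
  refine ⟨CharacterModule.dual (PureExt.charEval R Q) ∘ₗ
    CharacterModule.dual (CharacterModule.dual φ), ?_⟩
  ext m q
  rfl

theorem pi_iff (I : Type u) [AddCommGroup I] [Module R I] :
    PI R I ↔ ∃ r : CharacterModule (CharacterModule I) →ₗ[R] I, r ∘ₗ PureExt.charEval R I = LinearMap.id := by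
  refine ⟨fun h => h _ (universallyInjective_charEval I) LinearMap.id, ?_⟩
  rintro ⟨r, hr⟩ K L _ _ _ _ f hf φ
  obtain ⟨ψ, hψ⟩ := pi_characterModule (CharacterModule I) f hf (PureExt.charEval R I ∘ₗ φ)
  exact ⟨r ∘ₗ ψ, by rw [LinearMap.comp_assoc, hψ, ← LinearMap.comp_assoc, hr, LinearMap.id_comp]⟩

theorem ui_range_subtype {L M N : Type u} [AddCommGroup L] [Module R L] [AddCommGroup M] [Module R M]
    [AddCommGroup N] [Module R N] (f : L →ₗ[R] M) (g : M →ₗ[R] N)
    (h : ∀ (Q : Type u) [AddCommGroup Q] [Module R Q], Exact (f.rTensor Q) (g.rTensor Q)) :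
    UniversallyInjective R (LinearMap.range g).subtype := by
  intro Q _ _
  rw [injective_iff_map_eq_zero]
  intro b hb
  obtain ⟨z, rfl⟩ := LinearMap.rTensor_surjective Q g.surjective_rangeRestrict b
  rw [← LinearMap.comp_apply, ← LinearMap.rTensor_comp, LinearMap.subtype_comp_codRestrict] at hb
  obtain ⟨w, rfl⟩ := (h Q z).mp hb
  have h0 : g.rangeRestrict ∘ₗ f = 0 := by
    refine LinearMap.ext fun a => Subtype.ext ?_
    have h1 := (h R).apply_apply_eq_zero (a ⊗ₜ[R] (1 : R))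
    rw [LinearMap.rTensor_tmul, LinearMap.rTensor_tmul] at h1
    simpa using congrArg (TensorProduct.rid R N) h1
  rw [← LinearMap.comp_apply, ← LinearMap.rTensor_comp, h0, LinearMap.rTensor_zero, LinearMap.zero_apply]

theorem pp_of_finitePresentation (Q : Type u) [AddCommGroup Q] [Module R Q] [Module.FinitePresentation R Q] :
    PP R Q := by
  intro L N _ _ _ _ g hg hui φ
  let E : Submodule R (L × Q) := LinearMap.ker (g ∘ₗ LinearMap.fst R L Q - φ ∘ₗ LinearMap.snd R L Q)
  have hE : ∀ (x : L) (q : Q), (x, q) ∈ E ↔ g x = φ q := fun x q => by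
    simp [E, sub_eq_zero]
  let p : E →ₗ[R] Q := LinearMap.snd R L Q ∘ₗ E.subtype
  have hp : Surjective p := fun q => by
    obtain ⟨x, hx⟩ := hg (φ q)
    exact ⟨⟨(x, q), (hE x q).mpr hx⟩, rfl⟩
  let i : LinearMap.ker g →ₗ[R] E := (LinearMap.inl R L Q ∘ₗ (LinearMap.ker g).subtype).codRestrict E
    fun x => (hE _ _).mpr (x.2.trans (map_zero φ).symm)
  have hex : Exact i p := by
    rintro ⟨⟨x, q⟩, hxq⟩
    refine ⟨fun h => ?_, ?_⟩
    · have hq : q = 0 := h
      subst hq
      exact ⟨⟨x, ((hE x 0).mp hxq).trans (map_zero φ)⟩, rfl⟩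
    · rintro ⟨y, hy⟩
      rw [← hy]
      rfl
  have hi : UniversallyInjective R i :=
    UI.of_comp (g := LinearMap.fst R L Q ∘ₗ E.subtype) hui
  obtain ⟨s, hs⟩ := exists_section_of_ui i p hex hp hi
  refine ⟨LinearMap.fst R L Q ∘ₗ E.subtype ∘ₗ s, LinearMap.ext fun q => ?_⟩
  exact ((hE _ _).mp (s q).2).trans (congrArg φ (LinearMap.congr_fun hs q))

theorem pp_dfinsupp {ι : Type u} (Q : ι → Type u) [∀ i, AddCommGroup (Q i)] [∀ i, Module R (Q i)]
    (h : ∀ i, Module.FinitePresentation R (Q i)) : PP R (Π₀ i, Q i) := by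
  classical
  intro L N _ _ _ _ g hg hui φ
  choose ψ hψ using fun i => @pp_of_finitePresentation R _ (Q i) _ _ (h i) L N _ _ _ _ g hg hui
    (φ ∘ₗ DFinsupp.lsingle i)
  refine ⟨DFinsupp.lsum ℕ ψ, DFinsupp.lhom_ext' fun i => ?_⟩
  rw [← hψ i]
  ext x
  simp

theorem pp_of_retract {P D : Type u} [AddCommGroup P] [Module R P] [AddCommGroup D] [Module R D]
    (s : P →ₗ[R] D) (r : D →ₗ[R] P) (hrs : r ∘ₗ s = LinearMap.id) (hD : PP R D) : PP R P := by
  intro L N _ _ _ _ g hg hui φ
  obtain ⟨ψ, hψ⟩ := hD g hg hui (φ ∘ₗ r)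
  exact ⟨ψ ∘ₗ s, by rw [← LinearMap.comp_assoc, hψ, LinearMap.comp_assoc, hrs, LinearMap.comp_id]⟩

/-- Pure cover by a direct sum of finitely presented modules. -/
theorem exists_pure_cover (M : Type u) [AddCommGroup M] [Module R M] :
    ∃ (ι : Type u) (Q : ι → Type u) (_ : ∀ i, AddCommGroup (Q i)) (_ : ∀ i, Module R (Q i)),
      (∀ i, Module.FinitePresentation R (Q i)) ∧
      ∃ g : (Π₀ i, Q i) →ₗ[R] M, Surjective g ∧ UniversallyInjective R (LinearMap.ker g).subtype := by
  classical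
  let ι := Σ (n : ℕ) (K : {K : Submodule R (Fin n → R) // K.FG}), ((Fin n → R) ⧸ K.1) →ₗ[R] M
  let Q : ι → Type u := fun i => (Fin i.1 → R) ⧸ i.2.1.1
  let g : (Π₀ i, Q i) →ₗ[R] M := DFinsupp.lsum ℕ (fun i => i.2.2)
  have hg1 : ∀ (i : ι) (x : Q i), g (DFinsupp.single i x) = i.2.2 x := fun i x => by
    simp [g]
    rfl
  refine ⟨ι, Q, inferInstance, inferInstance, fun i => ?_, g, fun m => ?_, ?_⟩
  · exact Module.finitePresentation_of_surjective _ (Submodule.mkQ_surjective _)
      (by rw [Submodule.ker_mkQ]; exact i.2.1.2)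
  · let i : ι := ⟨1, ⟨⊥, Submodule.fg_bot⟩,
      (Fintype.linearCombination R (fun _ : Fin 1 => m)) ∘ₗ (Submodule.quotEquivOfEqBot _ rfl).toLinearMap⟩
    refine ⟨DFinsupp.single i (Submodule.Quotient.mk (fun _ => 1)), ?_⟩
    rw [hg1]
    simp [i, Fintype.linearCombination_apply]
  · refine ui_of_equational _ fun n m x y a hxy => ?_
    let K : Submodule R (Fin m → R) := Submodule.span R (Set.range a)
    let φ : ((Fin m → R) ⧸ K) →ₗ[R] M := K.liftQ (Fintype.linearCombination R fun j => g (y j)) (by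
      rw [Submodule.span_le]
      rintro _ ⟨i, rfl⟩
      rw [SetLike.mem_coe, LinearMap.mem_ker, Fintype.linearCombination_apply]
      have := congrArg g (hxy i)
      rw [map_sum] at this
      simp only [map_smul] at this
      rw [← this]
      exact (x i).2)
    let i₀ : ι := ⟨m, ⟨K, Submodule.fg_span (Set.finite_range a)⟩, φ⟩
    let lift : (Fin m → R) →ₗ[R] (Π₀ i, Q i) := DFinsupp.lsingle i₀ ∘ₗ K.mkQ
    have hglift : ∀ v, g (lift v) = Fintype.linearCombination R (fun j => g (y j)) v := fun v => hg1 i₀ _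
    let z : Fin m → (Π₀ i, Q i) := fun j => lift (Pi.single j 1)
    refine ⟨fun j => ⟨y j - z j, ?_⟩, fun i => ?_⟩
    · rw [LinearMap.mem_ker, map_sub, hglift, Fintype.linearCombination_apply_single, one_smul, sub_self]
    · apply Subtype.ext
      have h0 : ∑ j, a i j • z j = 0 := by
        have e : (∑ j, a i j • z j) = lift (∑ j, a i j • Pi.single j (1 : R)) := by
          simp only [map_sum, map_smul, z]
        rw [e, ← pi_eq_sum_univ' (a i)]
        show DFinsupp.lsingle (R := R) (M := Q) i₀ (K.mkQ (a i)) = 0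
        have : K.mkQ (a i) = 0 := (Submodule.Quotient.mk_eq_zero K).mpr (Submodule.subset_span ⟨i, rfl⟩)
        rw [this, map_zero]
      rw [Submodule.coe_sum]
      simp only [Submodule.coe_smul, smul_sub, Finset.sum_sub_distrib, h0, sub_zero]
      exact hxy i

theorem pp_iff (P : Type u) [AddCommGroup P] [Module R P] :
    PP R P ↔ ∃ (ι : Type u) (Q : ι → Type u) (_ : ∀ i, AddCommGroup (Q i)) (_ : ∀ i, Module R (Q i)),
      (∀ i, Module.FinitePresentation R (Q i)) ∧
      ∃ (s : P →ₗ[R] (Π₀ i, Q i)) (r : (Π₀ i, Q i) →ₗ[R] P), r ∘ₗ s = LinearMap.id := by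
  constructor
  · intro h
    obtain ⟨ι, Q, _, _, hQ, g, hg, hui⟩ := exists_pure_cover (R := R) P
    obtain ⟨s, hs⟩ := h g hg hui LinearMap.id
    exact ⟨ι, Q, inferInstance, inferInstance, hQ, s, g, hs⟩
  · rintro ⟨ι, Q, _, _, hQ, s, r, hrs⟩
    exact pp_of_retract s r hrs (pp_dfinsupp Q hQ)

end Groth.Agent.PureExt12
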