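import Groth.Agent.PureExt12.Basic
import Mathlib.Algebra.Homology.QuasiIso
import Mathlib.Algebra.Homology.Single
import Mathlib.Algebra.Homology.Homotopy
import Mathlib.Algebra.Homology.ShortComplex.ModuleCat
import Mathlib.Algebra.Category.ModuleCat.Monoidal.Basic
import Mathlib.Algebra.Category.ModuleCat.EpiMono
import Mathlib.CategoryTheory.Monoidal.Preadditive

/-!
# Universally exact resolutions
-/

universe u

set_option backward.isDefEq.respectTransparency false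

namespace Groth.Agent.PureExt12

open TensorProduct Function CategoryTheory CategoryTheory.Limits CAlgX MonoidalCategory

variable {R : Type u} [CommRing R]

/-- Exact after tensoring with anything. -/
def UExact {L M N : ModuleCat.{u} R} (f : L ⟶ M) (g : M ⟶ N) : Prop :=
  ∀ (Q : Type u) [AddCommGroup Q] [Module R Q], Exact (f.hom.rTensor Q) (g.hom.rTensor Q)

theorem UExact.exact {L M N : ModuleCat.{u} R} {f : L ⟶ M} {g : M ⟶ N} (h : UExact f g) :
    Exact f.hom g.hom := by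
  intro x
  have h1 := h R (x ⊗ₜ[R] (1 : R))
  rw [LinearMap.rTensor_tmul] at h1
  constructor
  · intro hx
    obtain ⟨z, hz⟩ := h1.mp (by rw [hx, zero_tmul])
    refine ⟨TensorProduct.rid R L z, ?_⟩
    have e : ∀ z, f.hom (TensorProduct.rid R L z) = TensorProduct.rid R M (f.hom.rTensor R z) := by
      intro z
      induction z with
      | zero => simp
      | add a b ha hb => simp only [map_add, ha, hb]
      | tmul a b => simp
    rw [e, hz]
    simp
  · rintro ⟨y, rfl⟩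
    have := h1.mpr ⟨y ⊗ₜ[R] (1 : R), by simp⟩
    simpa using congrArg (TensorProduct.rid R N) this

section QIso

theorem quasiIso_chain_iff {K : ChainComplex (ModuleCat.{u} R) ℕ} {N : ModuleCat.{u} R}
    (ε : K ⟶ (ChainComplex.single₀ (ModuleCat.{u} R)).obj N) (T : ModuleCat.{u} R) :
    QuasiIso (((tensorRight T).mapHomologicalComplex (ComplexShape.down ℕ)).map ε) ↔
      (Exact ((K.d 1 0).hom.rTensor T) ((ε.f 0).hom.rTensor T) ∧
        Surjective ((ε.f 0).hom.rTensor T)) ∧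
        ∀ n, Exact ((K.d (n + 2) (n + 1)).hom.rTensor T) ((K.d (n + 1) n).hom.rTensor T) := by
  let G := (tensorRight T).mapHomologicalComplex (ComplexShape.down ℕ)
  let L := (ChainComplex.single₀ (ModuleCat.{u} R)).obj N
  have hL : ∀ n, (G.obj L).ExactAt (n + 1) := fun n =>
    ShortComplex.exact_of_isZero_X₂ _ ((tensorRight T).map_isZero
      (HomologicalComplex.isZero_single_obj_X (ComplexShape.down ℕ) 0 N (n + 1) (Nat.succ_ne_zero n)))
  have h0 : ∀ i j, (G.obj L).d i j = 0 := fun i j => by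
    show (tensorRight T).map (L.d i j) = 0
    rw [show L.d i j = 0 from HomologicalComplex.single_obj_d .., Functor.map_zero]
  have hn : ∀ n, QuasiIsoAt (G.map ε) (n + 1) ↔
      Exact ((K.d (n + 2) (n + 1)).hom.rTensor T) ((K.d (n + 1) n).hom.rTensor T) := fun n => by
    rw [quasiIsoAt_iff_exactAt' _ _ (hL n),
      HomologicalComplex.exactAt_iff' _ (n + 2) (n + 1) n (ChainComplex.prev _ _) (ChainComplex.next_nat_succ _),
      ShortComplex.ShortExact.moduleCat_exact_iff_function_exact]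
    rfl
  have hz : QuasiIsoAt (G.map ε) 0 ↔ (Exact ((K.d 1 0).hom.rTensor T) ((ε.f 0).hom.rTensor T) ∧
      Surjective ((ε.f 0).hom.rTensor T)) := by
    rw [ChainComplex.quasiIsoAt₀_iff, ShortComplex.quasiIso_iff_of_zeros',
      ShortComplex.ShortExact.moduleCat_exact_iff_function_exact, ModuleCat.epi_iff_surjective]
    · rfl
    · show (tensorRight T).map (K.d 0 0) = 0
      rw [K.shape 0 0 (by simp), Functor.map_zero]
    · exact h0 1 0
    · exact h0 0 0
  constructor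
  · intro h
    exact ⟨hz.mp inferInstance, fun n => (hn n).mp inferInstance⟩
  · rintro ⟨a, b⟩
    exact ⟨fun i => match i with | 0 => hz.mpr a | n + 1 => (hn n).mpr (b n)⟩

theorem quasiIso_cochain_iff {K : CochainComplex (ModuleCat.{u} R) ℕ} {N : ModuleCat.{u} R}
    (η : (CochainComplex.single₀ (ModuleCat.{u} R)).obj N ⟶ K) (T : ModuleCat.{u} R) :
    QuasiIso (((tensorRight T).mapHomologicalComplex (ComplexShape.up ℕ)).map η) ↔
      (Exact ((η.f 0).hom.rTensor T) ((K.d 0 1).hom.rTensor T) ∧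
        Injective ((η.f 0).hom.rTensor T)) ∧
        ∀ n, Exact ((K.d n (n + 1)).hom.rTensor T) ((K.d (n + 1) (n + 2)).hom.rTensor T) := by
  let G := (tensorRight T).mapHomologicalComplex (ComplexShape.up ℕ)
  let L := (CochainComplex.single₀ (ModuleCat.{u} R)).obj N
  have hL : ∀ n, (G.obj L).ExactAt (n + 1) := fun n =>
    ShortComplex.exact_of_isZero_X₂ _ ((tensorRight T).map_isZero
      (HomologicalComplex.isZero_single_obj_X (ComplexShape.up ℕ) 0 N (n + 1) (Nat.succ_ne_zero n)))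
  have h0 : ∀ i j, (G.obj L).d i j = 0 := fun i j => by
    show (tensorRight T).map (L.d i j) = 0
    rw [show L.d i j = 0 from HomologicalComplex.single_obj_d .., Functor.map_zero]
  have hn : ∀ n, QuasiIsoAt (G.map η) (n + 1) ↔
      Exact ((K.d n (n + 1)).hom.rTensor T) ((K.d (n + 1) (n + 2)).hom.rTensor T) := fun n => by
    rw [quasiIsoAt_iff_exactAt _ _ (hL n),
      HomologicalComplex.exactAt_iff' _ n (n + 1) (n + 2) (CochainComplex.prev_nat_succ _) (CochainComplex.next _ _),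
      ShortComplex.ShortExact.moduleCat_exact_iff_function_exact]
    rfl
  have hz : QuasiIsoAt (G.map η) 0 ↔ (Exact ((η.f 0).hom.rTensor T) ((K.d 0 1).hom.rTensor T) ∧
      Injective ((η.f 0).hom.rTensor T)) := by
    rw [CochainComplex.quasiIsoAt₀_iff, ShortComplex.quasiIso_iff_of_zeros,
      ShortComplex.ShortExact.moduleCat_exact_iff_function_exact, ModuleCat.mono_iff_injective]
    · rfl
    · exact h0 0 0
    · exact h0 0 1
    · show (tensorRight T).map (K.d 0 0) = 0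
      rw [K.shape 0 0 (by simp), Functor.map_zero]
  constructor
  · intro h
    exact ⟨hz.mp inferInstance, fun n => (hn n).mp inferInstance⟩
  · rintro ⟨a, b⟩
    exact ⟨fun i => match i with | 0 => hz.mpr a | n + 1 => (hn n).mpr (b n)⟩

end QIso

section Proj

theorem exists_lift {L₄ L₃ L₂ L₁ L₀ P : ModuleCat.{u} R} {a₄ : L₄ ⟶ L₃} {a₃ : L₃ ⟶ L₂} {a : L₂ ⟶ L₁}
    {b : L₁ ⟶ L₀} (h₄ : UExact a₄ a₃) (h₃ : UExact a₃ a) (h : UExact a b) (hP : PP R P) (g : P ⟶ L₁)
    (hg : g ≫ b = 0) : ∃ ψ : P ⟶ L₂, ψ ≫ a = g := by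
  let a' : L₂ →ₗ[R] LinearMap.ker b.hom :=
    a.hom.codRestrict _ fun x => h.exact.apply_apply_eq_zero x
  have hs : Surjective a' := fun ⟨y, hy⟩ => by
    obtain ⟨x, hx⟩ := (h.exact y).mp hy
    exact ⟨x, Subtype.ext hx⟩
  have hui : UniversallyInjective R (LinearMap.ker a').subtype := by
    rw [show LinearMap.ker a' = LinearMap.range a₃.hom by
      rw [LinearMap.ker_codRestrict]; exact LinearMap.exact_iff.mp h₃.exact]
    exact ui_range_subtype a₄.hom a₃.hom fun Q _ _ => h₄ Q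
  obtain ⟨ψ, hψ⟩ := hP a' hs hui
    (g.hom.codRestrict _ fun x => LinearMap.congr_fun (congrArg ModuleCat.Hom.hom hg) x)
  exact ⟨ModuleCat.ofHom ψ, ModuleCat.hom_ext (LinearMap.ext fun x =>
    congrArg Subtype.val (LinearMap.congr_fun hψ x))⟩

variable {N : ModuleCat.{u} R} {K : ChainComplex (ModuleCat.{u} R) ℕ}
  {ε : K ⟶ (ChainComplex.single₀ (ModuleCat.{u} R)).obj N}
  (hK : ∀ T : ModuleCat.{u} R,
    QuasiIso (((tensorRight T).mapHomologicalComplex (ComplexShape.down ℕ)).map ε))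

include hK in
theorem uexact_succ (n : ℕ) : UExact (K.d (n + 2) (n + 1)) (K.d (n + 1) n) :=
  fun Q _ _ => ((quasiIso_chain_iff ε (ModuleCat.of R Q)).mp (hK _)).2 n

include hK in
theorem uexact_zero : UExact (K.d 1 0) (ε.f 0) :=
  fun Q _ _ => ((quasiIso_chain_iff ε (ModuleCat.of R Q)).mp (hK _)).1.1

include hK in
theorem exists_lift_succ {P : ModuleCat.{u} R} (hP : PP R P) (n : ℕ) (g : P ⟶ K.X (n + 1))
    (hg : g ≫ K.d (n + 1) n = 0) : ∃ ψ : P ⟶ K.X (n + 2), ψ ≫ K.d (n + 2) (n + 1) = g :=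
  exists_lift (uexact_succ hK (n + 2)) (uexact_succ hK (n + 1)) (uexact_succ hK n) hP g hg

include hK in
theorem exists_lift_zero {P : ModuleCat.{u} R} (hP : PP R P) (g : P ⟶ K.X 0)
    (hg : g ≫ ε.f 0 = 0) : ∃ ψ : P ⟶ K.X 1, ψ ≫ K.d 1 0 = g :=
  exists_lift (uexact_succ hK 1) (uexact_succ hK 0) (uexact_zero hK) hP g hg

include hK in
theorem exists_lift_aug {P : ModuleCat.{u} R} (hP : PP R P)
    (g : P ⟶ ((ChainComplex.single₀ (ModuleCat.{u} R)).obj N).X 0) :
    ∃ ψ : P ⟶ K.X 0, ψ ≫ ε.f 0 = g := by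
  have hs : Surjective (ε.f 0).hom := fun y => by
    obtain ⟨z, hz⟩ := ((quasiIso_chain_iff ε (ModuleCat.of R R)).mp (hK _)).1.2 (y ⊗ₜ[R] (1 : R))
    refine ⟨TensorProduct.rid R _ z, ?_⟩
    have e : ∀ z, (ε.f 0).hom (TensorProduct.rid R _ z) =
        TensorProduct.rid R _ ((ε.f 0).hom.rTensor R z) := by
      intro z
      induction z with
      | zero => simp only [map_zero]
      | add a b ha hb => simp only [map_add, ha, hb]
      | tmul a b => simp
    rw [e]
    exact (congrArg (TensorProduct.rid R _) hz).trans (by simp)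
  have hui : UniversallyInjective R (LinearMap.ker (ε.f 0).hom).subtype := by
    rw [LinearMap.exact_iff.mp (uexact_zero hK).exact]
    exact ui_range_subtype (K.d 2 1).hom (K.d 1 0).hom fun Q _ _ => uexact_succ hK 0 Q
  obtain ⟨ψ, hψ⟩ := hP (ε.f 0).hom hs hui g.hom
  exact ⟨ModuleCat.ofHom ψ, ModuleCat.hom_ext hψ⟩

include hK in
theorem exists_chainMap {M : ModuleCat.{u} R} (f : M ⟶ N) {P : ChainComplex (ModuleCat.{u} R) ℕ}
    (π : P ⟶ (ChainComplex.single₀ (ModuleCat.{u} R)).obj M) (hP : ∀ n, PP R (P.X n)) :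
    ∃ φ : P ⟶ K, φ ≫ ε = π ≫ (ChainComplex.single₀ (ModuleCat.{u} R)).map f := by
  obtain ⟨a, ha⟩ := exists_lift_aug hK (hP 0) (π.f 0 ≫ ((ChainComplex.single₀ (ModuleCat.{u} R)).map f).f 0)
  obtain ⟨b, hb⟩ := exists_lift_zero hK (hP 1) (P.d 1 0 ≫ a) (by
    rw [Category.assoc, ha, ← Category.assoc, ← π.comm 1 0, HomologicalComplex.single_obj_d, comp_zero, zero_comp])
  have hsucc : ∀ (n : ℕ) (p : Σ' (f : P.X n ⟶ K.X n) (f' : P.X (n + 1) ⟶ K.X (n + 1)),
      f' ≫ K.d (n + 1) n = P.d (n + 1) n ≫ f),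
      ∃ f'' : P.X (n + 2) ⟶ K.X (n + 2), f'' ≫ K.d (n + 2) (n + 1) = P.d (n + 2) (n + 1) ≫ p.2.1 :=
    fun n p => exists_lift_succ hK (hP _) n _ (by
      rw [Category.assoc, p.2.2, ← Category.assoc, P.d_comp_d, zero_comp])
  refine ⟨ChainComplex.mkHom _ _ a b hb
    (fun n p => ⟨(hsucc n p).choose, (hsucc n p).choose_spec⟩), ?_⟩
  apply HomologicalComplex.hom_ext
  intro i
  match i with
  | 0 => exact ha
  | n + 1 => exact (HomologicalComplex.isZero_single_obj_X _ 0 N (n + 1) (Nat.succ_ne_zero n)).eq_of_tgt _ _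

include hK in
theorem nonempty_homotopy {P : ChainComplex (ModuleCat.{u} R) ℕ} (hP : ∀ n, PP R (P.X n))
    (e : P ⟶ K) (he : e ≫ ε = 0) : Nonempty (Homotopy e 0) := by
  obtain ⟨a, ha⟩ := exists_lift_zero hK (hP 0) (e.f 0)
    (by rw [← HomologicalComplex.comp_f, he]; rfl)
  obtain ⟨b, hb⟩ := exists_lift_succ hK (hP 1) 0 (e.f 1 - P.d 1 0 ≫ a) (by
    rw [Preadditive.sub_comp, Category.assoc, ha, e.comm, sub_self])
  have hsucc : ∀ (n : ℕ) (p : Σ' (f : P.X n ⟶ K.X (n + 1)) (f' : P.X (n + 1) ⟶ K.X (n + 2)),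
      e.f (n + 1) = P.d (n + 1) n ≫ f + f' ≫ K.d (n + 2) (n + 1)),
      ∃ f'' : P.X (n + 2) ⟶ K.X (n + 3),
        e.f (n + 2) = P.d (n + 2) (n + 1) ≫ p.2.1 + f'' ≫ K.d (n + 3) (n + 2) := fun n p => by
    obtain ⟨q, q', w⟩ := p
    obtain ⟨h, hh⟩ := exists_lift_succ hK (hP (n + 2)) (n + 1) (e.f (n + 2) - P.d (n + 2) (n + 1) ≫ q') (by
      rw [Preadditive.sub_comp, Category.assoc, e.comm, w, Preadditive.comp_add,
        ← Category.assoc, P.d_comp_d, zero_comp, zero_add, sub_self])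
    exact ⟨h, by rw [hh]; dsimp only; abel⟩
  exact ⟨Homotopy.mkInductive e a ha.symm b (by rw [hb]; abel)
    (fun n p => ⟨(hsucc n p).choose, (hsucc n p).choose_spec⟩)⟩

end Proj

section Inj

theorem exists_desc {L₀ L₁ L₂ I : ModuleCat.{u} R} {b : L₀ ⟶ L₁} {a : L₁ ⟶ L₂} (h : UExact b a)
    (hI : PI R I) (g : L₁ ⟶ I) (hg : b ≫ g = 0) : ∃ ψ : L₂ ⟶ I, a ≫ ψ = g := by
  have hker : LinearMap.ker a.hom.rangeRestrict ≤ LinearMap.ker g.hom := by
    rw [LinearMap.ker_rangeRestrict, LinearMap.exact_iff.mp h.exact]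
    rintro _ ⟨x, rfl⟩
    exact LinearMap.congr_fun (congrArg ModuleCat.Hom.hom hg) x
  let g' : LinearMap.range a.hom →ₗ[R] I := (LinearMap.ker a.hom.rangeRestrict).liftQ g.hom hker ∘ₗ
    (a.hom.rangeRestrict.quotKerEquivOfSurjective a.hom.surjective_rangeRestrict).symm.toLinearMap
  obtain ⟨ψ, hψ⟩ := hI _ (ui_range_subtype b.hom a.hom fun Q _ _ => h Q) g'
  refine ⟨ModuleCat.ofHom ψ, ModuleCat.hom_ext (LinearMap.ext fun x => ?_)⟩
  refine (LinearMap.congr_fun hψ (a.hom.rangeRestrict x)).trans ?_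
  simp [g', LinearMap.quotKerEquivOfSurjective_symm_apply]

variable {M : ModuleCat.{u} R} {K : CochainComplex (ModuleCat.{u} R) ℕ}
  {η : (CochainComplex.single₀ (ModuleCat.{u} R)).obj M ⟶ K}
  (hK : ∀ T : ModuleCat.{u} R,
    QuasiIso (((tensorRight T).mapHomologicalComplex (ComplexShape.up ℕ)).map η))

include hK in
theorem exists_desc_succ {I : ModuleCat.{u} R} (hI : PI R I) (n : ℕ) (g : K.X (n + 1) ⟶ I)
    (hg : K.d n (n + 1) ≫ g = 0) : ∃ ψ : K.X (n + 2) ⟶ I, K.d (n + 1) (n + 2) ≫ ψ = g :=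
  exists_desc (fun Q _ _ => ((quasiIso_cochain_iff η (ModuleCat.of R Q)).mp (hK _)).2 n) hI g hg

include hK in
theorem exists_desc_zero {I : ModuleCat.{u} R} (hI : PI R I) (g : K.X 0 ⟶ I)
    (hg : η.f 0 ≫ g = 0) : ∃ ψ : K.X 1 ⟶ I, K.d 0 1 ≫ ψ = g :=
  exists_desc (fun Q _ _ => ((quasiIso_cochain_iff η (ModuleCat.of R Q)).mp (hK _)).1.1) hI g hg

include hK in
theorem exists_desc_aug {I : ModuleCat.{u} R} (hI : PI R I)
    (g : ((CochainComplex.single₀ (ModuleCat.{u} R)).obj M).X 0 ⟶ I) :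
    ∃ ψ : K.X 0 ⟶ I, η.f 0 ≫ ψ = g := by
  obtain ⟨ψ, hψ⟩ := hI (η.f 0).hom
    (fun Q _ _ => ((quasiIso_cochain_iff η (ModuleCat.of R Q)).mp (hK _)).1.2) g.hom
  exact ⟨ModuleCat.ofHom ψ, ModuleCat.hom_ext hψ⟩

include hK in
theorem exists_cochainMap {N : ModuleCat.{u} R} (f : M ⟶ N) {I : CochainComplex (ModuleCat.{u} R) ℕ}
    (ε : (CochainComplex.single₀ (ModuleCat.{u} R)).obj N ⟶ I) (hI : ∀ n, PI R (I.X n)) :
    ∃ φ : K ⟶ I, η ≫ φ = (CochainComplex.single₀ (ModuleCat.{u} R)).map f ≫ ε := by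
  obtain ⟨a, ha⟩ := exists_desc_aug hK (hI 0) (((CochainComplex.single₀ (ModuleCat.{u} R)).map f).f 0 ≫ ε.f 0)
  obtain ⟨b, hb⟩ := exists_desc_zero hK (hI 1) (a ≫ I.d 0 1) (by
    rw [← Category.assoc, ha, Category.assoc, ε.comm 0 1, HomologicalComplex.single_obj_d, zero_comp, comp_zero])
  have hsucc : ∀ (n : ℕ) (p : Σ' (f : K.X n ⟶ I.X n) (f' : K.X (n + 1) ⟶ I.X (n + 1)),
      f ≫ I.d n (n + 1) = K.d n (n + 1) ≫ f'),
      ∃ f'' : K.X (n + 2) ⟶ I.X (n + 2), p.2.1 ≫ I.d (n + 1) (n + 2) = K.d (n + 1) (n + 2) ≫ f'' :=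
    fun n p => by
      obtain ⟨h, hh⟩ := exists_desc_succ hK (hI (n + 2)) n (p.2.1 ≫ I.d (n + 1) (n + 2)) (by
        rw [← Category.assoc, ← p.2.2, Category.assoc, I.d_comp_d, comp_zero])
      exact ⟨h, hh.symm⟩
  refine ⟨CochainComplex.mkHom _ _ a b hb.symm
    (fun n p => ⟨(hsucc n p).choose, (hsucc n p).choose_spec⟩), ?_⟩
  apply HomologicalComplex.hom_ext
  intro i
  match i with
  | 0 => exact ha
  | n + 1 => exact (HomologicalComplex.isZero_single_obj_X _ 0 M (n + 1) (Nat.succ_ne_zero n)).eq_of_src _ _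

include hK in
theorem nonempty_homotopy' {I : CochainComplex (ModuleCat.{u} R) ℕ} (hI : ∀ n, PI R (I.X n))
    (e : K ⟶ I) (he : η ≫ e = 0) : Nonempty (Homotopy e 0) := by
  obtain ⟨a, ha⟩ := exists_desc_zero hK (hI 0) (e.f 0)
    (by rw [← HomologicalComplex.comp_f, he]; rfl)
  obtain ⟨b, hb⟩ := exists_desc_succ hK (hI 1) 0 (e.f 1 - a ≫ I.d 0 1) (by
    rw [Preadditive.comp_sub, ← Category.assoc, ha, ← e.comm, sub_self])
  have hsucc : ∀ (n : ℕ) (p : Σ' (f : K.X (n + 1) ⟶ I.X n) (f' : K.X (n + 2) ⟶ I.X (n + 1)),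
      e.f (n + 1) = f ≫ I.d n (n + 1) + K.d (n + 1) (n + 2) ≫ f'),
      ∃ f'' : K.X (n + 3) ⟶ I.X (n + 2),
        e.f (n + 2) = p.2.1 ≫ I.d (n + 1) (n + 2) + K.d (n + 2) (n + 3) ≫ f'' := fun n p => by
    obtain ⟨q, q', w⟩ := p
    obtain ⟨h, hh⟩ := exists_desc_succ hK (hI (n + 2)) (n + 1) (e.f (n + 2) - q' ≫ I.d (n + 1) (n + 2)) (by
      rw [Preadditive.comp_sub, ← e.comm, w, Preadditive.add_comp, Category.assoc,
        I.d_comp_d, comp_zero, zero_add, Category.assoc, sub_self])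
    exact ⟨h, by rw [hh]; dsimp only; abel⟩
  exact ⟨Homotopy.mkCoinductive e a ha.symm b (by rw [hb]; abel)
    (fun n p => ⟨(hsucc n p).choose, (hsucc n p).choose_spec⟩)⟩

end Inj

section Exist

/-- A pure projective cover. -/
structure Cover (K : ModuleCat.{u} R) where
  /-- the covering module -/
  P : ModuleCat.{u} R
  /-- the map -/
  g : P ⟶ K
  surj : Surjective g.hom
  ui : UniversallyInjective R (LinearMap.ker g.hom).subtype
  pp : PP R P

/-- A chosen cover. -/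
noncomputable def cover (K : ModuleCat.{u} R) : Cover K := Classical.choice (by
  obtain ⟨ι, Q, _, _, hQ, g, hs, hu⟩ := exists_pure_cover (R := R) K
  exact ⟨⟨ModuleCat.of R (Π₀ i, Q i), ModuleCat.ofHom g, hs, hu, pp_dfinsupp Q hQ⟩⟩)

variable (M : ModuleCat.{u} R)

/-- Iterated syzygies. -/
noncomputable def syz : ℕ → ModuleCat.{u} R
  | 0 => M
  | n + 1 => ModuleCat.of R (LinearMap.ker (cover (syz n)).g.hom)

/-- The inclusion of a syzygy. -/
noncomputable def syzι (n : ℕ) : syz M (n + 1) ⟶ (cover (syz M n)).P :=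
  ModuleCat.ofHom (LinearMap.ker (cover (syz M n)).g.hom).subtype

theorem exists_resolution :
    ∃ (P : ChainComplex (ModuleCat.{u} R) ℕ) (π : P ⟶ (ChainComplex.single₀ (ModuleCat.{u} R)).obj M),
      (∀ n, PP R (P.X n)) ∧
      ∀ T : ModuleCat.{u} R,
        QuasiIso (((tensorRight T).mapHomologicalComplex (ComplexShape.down ℕ)).map π) := by
  have hι : ∀ n, syzι M n ≫ (cover (syz M n)).g = 0 := fun n =>
    ModuleCat.hom_ext (LinearMap.ext fun x => x.2)
  let P := ChainComplex.of (fun n => (cover (syz M n)).P)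
    (fun n => (cover (syz M (n + 1))).g ≫ syzι M n) (fun n => by
      rw [Category.assoc, ← Category.assoc (syzι M (n + 1)), hι, zero_comp, comp_zero])
  have hd : ∀ n, P.d (n + 1) n = (cover (syz M (n + 1))).g ≫ syzι M n := fun n => by simp [P]
  have hπ : P.d 1 0 ≫ (cover (syz M 0)).g = 0 := by rw [hd, Category.assoc, hι, comp_zero]
  refine ⟨P, (P.toSingle₀Equiv M).symm ⟨(cover (syz M 0)).g, hπ⟩, fun n => (cover _).pp, fun T => ?_⟩
  rw [quasiIso_chain_iff, ChainComplex.toSingle₀Equiv_symm_apply_f_zero]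
  have key : ∀ n, Exact ((P.d (n + 1) n).hom.rTensor T) ((cover (syz M n)).g.hom.rTensor T) := by
    intro n
    have h1 := rTensor_exact T (LinearMap.exact_subtype_ker_map (cover (syz M n)).g.hom) (cover (syz M n)).surj
    rw [hd, ModuleCat.hom_comp, LinearMap.rTensor_comp, LinearMap.coe_comp]
    exact (Surjective.comp_exact_iff_exact (LinearMap.rTensor_surjective T (cover (syz M (n + 1))).surj)).mpr h1
  refine ⟨⟨key 0, LinearMap.rTensor_surjective T (cover (syz M 0)).surj⟩, fun n => ?_⟩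
  rw [hd n, ModuleCat.hom_comp, LinearMap.rTensor_comp, LinearMap.coe_comp]
  exact (key (n + 1)).comp_injective ((syzι M n).hom.rTensor T) ((cover (syz M n)).ui T) (map_zero _)

/-- The double dual. -/
noncomputable def dd (K : ModuleCat.{u} R) : ModuleCat.{u} R :=
  ModuleCat.of R (CharacterModule (CharacterModule K))

/-- Evaluation. -/
noncomputable def ev (K : ModuleCat.{u} R) : K ⟶ dd K := ModuleCat.ofHom (PureExt.charEval R K)

/-- Iterated cosyzygies. -/
noncomputable def cosyz : ℕ → ModuleCat.{u} R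
  | 0 => M
  | n + 1 => ModuleCat.of R (dd (cosyz n) ⧸ LinearMap.range (ev (cosyz n)).hom)

/-- The projection to a cosyzygy. -/
noncomputable def cosyzπ (n : ℕ) : dd (cosyz M n) ⟶ cosyz M (n + 1) :=
  ModuleCat.ofHom (LinearMap.range (ev (cosyz M n)).hom).mkQ

theorem exists_coresolution :
    ∃ (I : CochainComplex (ModuleCat.{u} R) ℕ) (η : (CochainComplex.single₀ (ModuleCat.{u} R)).obj M ⟶ I),
      (∀ n, PI R (I.X n)) ∧
      ∀ T : ModuleCat.{u} R,
        QuasiIso (((tensorRight T).mapHomologicalComplex (ComplexShape.up ℕ)).map η) := by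
  have hπ0 : ∀ n, ev (cosyz M n) ≫ cosyzπ M n = 0 := fun n =>
    ModuleCat.hom_ext (LinearMap.range_mkQ_comp _)
  let I := CochainComplex.of (fun n => dd (cosyz M n))
    (fun n => cosyzπ M n ≫ ev (cosyz M (n + 1))) (fun n => by
      rw [Category.assoc, ← Category.assoc (ev (cosyz M (n + 1))), hπ0, zero_comp, comp_zero])
  have hd : ∀ n, I.d n (n + 1) = cosyzπ M n ≫ ev (cosyz M (n + 1)) := fun n => by simp [I]
  have hη : ev (cosyz M 0) ≫ I.d 0 1 = 0 := by rw [hd, ← Category.assoc, hπ0, zero_comp]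
  refine ⟨I, (I.fromSingle₀Equiv M).symm ⟨ev (cosyz M 0), hη⟩, fun n => pi_characterModule _, fun T => ?_⟩
  rw [quasiIso_cochain_iff, CochainComplex.fromSingle₀Equiv_symm_apply_f_zero]
  have key : ∀ n, Exact ((ev (cosyz M n)).hom.rTensor T) ((I.d n (n + 1)).hom.rTensor T) := by
    intro n
    have h1 := rTensor_exact T (LinearMap.exact_map_mkQ_range (ev (cosyz M n)).hom) (Submodule.mkQ_surjective _)
    rw [hd, ModuleCat.hom_comp, LinearMap.rTensor_comp, LinearMap.coe_comp]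
    exact h1.comp_injective ((ev (cosyz M (n + 1))).hom.rTensor T)
      (universallyInjective_charEval (cosyz M (n + 1)) T) (map_zero _)
  refine ⟨⟨key 0, universallyInjective_charEval (cosyz M 0) T⟩, fun n => ?_⟩
  rw [hd n, ModuleCat.hom_comp, LinearMap.rTensor_comp, LinearMap.coe_comp]
  exact (Surjective.comp_exact_iff_exact
    (LinearMap.rTensor_surjective T (Submodule.mkQ_surjective _))).mpr (key (n + 1))

end Exist

end Groth.Agent.PureExt12
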